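/-
The centraliser in the automorphism group of the lattice of an element of order 5: its permutations
of ten marked sets of fixed classes give A₅ wr 2 with kernel of order 10.
-/
import Cfsg.Agent.HNSect.Data
import Cfsg.Agent.Golay.PrimeCentralizer
import Cfsg.Agent.Leech.Order
import Cfsg.Prelude.Def_MonsterType

set_option autoImplicit false
set_option linter.constructorNameAsVariable false
set_option maxRecDepth 100000

namespace CfsgLib.HNSect

open Cfsg CfsgLib.Golay CfsgLib.Leech CfsgLib.LeechFix CfsgLib.Golay.Cert

attribute [local irreducible] shortVecs halfTable quarterTable codeFinset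

theorem sig5_ok : Cert.genOK sig5 = true ∧ Cert.genOK nor5 = true := by decide +kernel

/-- The element of order 5. -/
noncomputable def σ : M24 := (Cert.genOK_spec sig5_ok.1).choose

theorem toList_σ : toList (σ : Equiv.Perm GolayPt) = sig5 := (Cert.genOK_spec sig5_ok.1).choose_spec

/-- An element conjugating it to its square. -/
noncomputable def τ : M24 := (Cert.genOK_spec sig5_ok.2).choose

theorem toList_τ : toList (τ : Equiv.Perm GolayPt) = nor5 := (Cert.genOK_spec sig5_ok.2).choose_spec

theorem tau_conj : τ * σ * τ⁻¹ = σ ^ 2 := by
  rw [mul_inv_eq_iff_eq_mul]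
  refine toList_coe_injective ?_
  show toList ((τ * σ : M24) : Equiv.Perm GolayPt) = toList ((σ ^ 2 * τ : M24) : Equiv.Perm GolayPt)
  simp only [Subgroup.coe_mul, SubgroupClass.coe_pow, pow_two, toList_mul, toList_σ, toList_τ]
  decide +kernel

theorem orderOf_σ : orderOf σ = 5 := by
  haveI : Fact (Nat.Prime 5) := ⟨by norm_num⟩
  refine orderOf_eq_prime (toList_coe_injective ?_) fun e => ?_
  · show toList ((σ ^ 5 : M24) : Equiv.Perm GolayPt) = toList ((1 : M24) : Equiv.Perm GolayPt)
    simp only [SubgroupClass.coe_pow, OneMemClass.coe_one, toList_one,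
      show (σ : Equiv.Perm GolayPt) ^ 5 = σ * σ * σ * σ * σ by rw [pow_succ, pow_succ, pow_succ, pow_succ, pow_one],
      toList_mul, toList_σ]
    decide +kernel
  · have := congrArg (fun x : M24 => toList (x : Equiv.Perm GolayPt)) e
    simp only [toList_σ, OneMemClass.coe_one, toList_one] at this
    revert this
    decide +kernel

theorem basis_ok : basOK bas = true ∧ fixOK bas [.mono sig5 0] = true := by decide +kernel

theorem reps_ok : repsOK bas reps = true := by decide +kernel

theorem span_ok : spanOK bas [.mono sig5 0] 5 nsum = true := by decide +kernel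

/-- The automorphism of order 5 with its fixed classes. -/
noncomputable def S : Sys where
  σ := σ
  L := sig5
  hL := toList_σ
  bas := bas
  reps := reps
  ns := nsum
  p := 5
  hp := rfl
  hb := basis_ok.1
  hr := reps_ok
  hf := basis_ok.2
  hs := span_ok

theorem S_N : S.N = 256 := rfl

/-- The marked sets in a list. -/
def allPts : List (Fin 5 ⊕ Fin 5) :=
  [.inl 0, .inl 1, .inl 2, .inl 3, .inl 4, .inr 0, .inr 1, .inr 2, .inr 3, .inr 4]

theorem mem_allPts : ∀ j, j ∈ allPts := by
  rintro (j | j) <;> fin_cases j <;> simp [allPts]

theorem marks_lt' : ∀ j, marks j < 2 ^ 256 := by decide +kernel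

theorem marks_lt : ∀ j, marks j < 2 ^ S.N := marks_lt'

theorem marks_inj : Function.Injective marks := by
  intro a b
  revert a b
  decide +kernel

/-- The induced permutation. -/
noncomputable def Φ : S.dom marks →* Equiv.Perm (Fin 5 ⊕ Fin 5) := S.perm marks marks_lt marks_inj

theorem gen0 : S.genB marks allPts gw0 gm0 gp0 = true := by
  show Sys.genB _ _ _ _ _ _ = true
  decide +kernel

theorem gen1 : S.genB marks allPts gw1 gm1 gp1 = true := by decide +kernel

theorem gen2 : S.genB marks allPts gw2 gm2 gp2 = true := by decide +kernel

theorem gen3 : S.genB marks allPts gw3 gm3 gp3 = true := by decide +kernel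

theorem gen4 : S.genB marks allPts gw4 gm4 gp4 = true := by decide +kernel

theorem gen5 : S.genB marks allPts gw5 gm5 gp5 = true := by decide +kernel

theorem gen6 : S.genB marks allPts gw6 gm6 gp6 = true := by decide +kernel

theorem gen7 : S.genB marks allPts gw7 gm7 gp7 = true := by decide +kernel

theorem gen8 : S.genB marks allPts gw8 gm8 gp8 = true := by decide +kernel

end CfsgLib.HNSect
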