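/-
The centraliser of the element of order 5 modulo the group of order 10 it generates with negation
is A₅ wr 2.
-/
import Cfsg.Agent.HNSect.Cent

set_option autoImplicit false
set_option linter.constructorNameAsVariable false
set_option maxRecDepth 100000

namespace CfsgLib.HNSect

open Cfsg CfsgLib.Golay CfsgLib.Leech CfsgLib.LeechFix

attribute [local irreducible] shortVecs halfTable quarterTable codeFinset

theorem orderOf_rho : orderOf S.rho = 5 := by
  haveI : Fact (Nat.Prime 5) := ⟨by norm_num⟩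
  have h : ∀ x : M24, permHom x = 1 → x = 1 := fun x e => by
    rw [← map_one permHom, permHom_eq_monoAut, permHom_eq_monoAut] at e
    exact congrArg Prod.snd (monoAut_injective e)
  show orderOf (permHom σ) = 5
  refine orderOf_eq_prime ?_ fun e => ?_
  · rw [← map_pow, ← orderOf_σ, pow_orderOf_eq_one, map_one]
  · have := orderOf_σ
    rw [h _ e, orderOf_one] at this
    omega

/-- The element of order 10 acting trivially. -/
noncomputable def ζ : Co0 := negAut * S.rho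

theorem negAut_comm (g : Co0) : g * negAut = negAut * g :=
  Subgroup.mem_center_iff.1 negAut_central g

theorem ind_rho : S.Ind marks S.rho 1 := fun j m hm m' hm' e => by
  rw [S.rho_fix] at e
  rw [S.cl_inj hm hm' e]; rfl

theorem ind_neg : S.Ind marks negAut 1 := fun j m hm m' hm' e => by
  rw [negAut_smul, AddSubgroup.coe_neg, cls_neg (S.vec' m).2, S.cls_vec'] at e
  rw [S.cl_inj hm hm' e]; rfl

theorem rho_cent : S.rho ∈ S.cent := S.mem_cent.2 rfl

theorem ind_ζ : S.Ind marks ζ 1 := by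
  have := S.ind_mul marks rho_cent ind_neg ind_rho
  rwa [one_mul] at this

theorem ζ_cent : ζ ∈ S.cent :=
  mul_mem (S.mem_cent.2 (negAut_comm _).symm) rho_cent

theorem orderOf_ζ : orderOf ζ = 10 := by
  haveI : Fact (Nat.Prime 2) := ⟨Nat.prime_two⟩
  have hn : orderOf negAut = 2 := by
    refine orderOf_eq_prime (by rw [pow_two, negAut_sq]) fun e => ?_
    have h := congrArg (fun g : Co0 => ((g • eightAt none : leechLattice) : GolayPt → ℤ) none) e
    simp only [negAut_smul, one_smul, AddSubgroup.coe_neg, Pi.neg_apply, eightAt_apply, if_true] at h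
    omega
  rw [ζ, (show Commute negAut S.rho from (negAut_comm S.rho).symm).orderOf_mul_eq_mul_orderOf_of_coprime (by rw [hn, orderOf_rho]; rfl),
    hn, orderOf_rho]

/-- The permutation group. -/
abbrev Wr : Subgroup (Equiv.Perm (Fin 5 ⊕ Fin 5)) := alternatingFiveWreathTwo

/-- An even pair, possibly followed by the swap. -/
def wrElt (x : (alternatingGroup (Fin 5) × alternatingGroup (Fin 5)) × Bool) :
    Equiv.Perm (Fin 5 ⊕ Fin 5) :=
  if x.2 then Equiv.Perm.sumCongr (x.1.1 : Equiv.Perm (Fin 5)) x.1.2 * Equiv.sumComm (Fin 5) (Fin 5)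
  else Equiv.Perm.sumCongr (x.1.1 : Equiv.Perm (Fin 5)) x.1.2

theorem wrElt_mem (x) : wrElt x ∈ Wr := by
  have h1 : Equiv.Perm.sumCongr (x.1.1 : Equiv.Perm (Fin 5)) x.1.2 ∈ Wr :=
    Subgroup.subset_closure (Or.inl ⟨x.1.1, x.1.2, rfl⟩)
  unfold wrElt
  split
  exacts [mul_mem h1 (Subgroup.subset_closure (Or.inr rfl)), h1]

theorem card_Wr_ge : 7200 ≤ Nat.card Wr := by
  have hinj : Function.Injective fun x => (⟨wrElt x, wrElt_mem x⟩ : Wr) := by
    rintro ⟨⟨a, b⟩, s⟩ ⟨⟨a', b'⟩, s'⟩ h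
    have h' : ∀ j, wrElt ((a, b), s) j = wrElt ((a', b'), s') j := fun j =>
      congrArg (fun p : Wr => (p : Equiv.Perm (Fin 5 ⊕ Fin 5)) j) h
    have hs : s = s' := by
      have := h' (Sum.inl 0)
      cases s <;> cases s' <;> simp [wrElt] at this ⊢
    subst hs
    have ha : a = a' := Subtype.ext (Equiv.ext fun i => by
      cases s
      · simpa [wrElt] using h' (Sum.inl i)
      · simpa [wrElt] using h' (Sum.inr i))
    have hb : b = b' := Subtype.ext (Equiv.ext fun i => by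
      cases s
      · simpa [wrElt] using h' (Sum.inr i)
      · simpa [wrElt] using h' (Sum.inl i))
    subst ha; subst hb; rfl
  refine le_trans ?_ (Nat.card_le_card_of_injective _ hinj)
  rw [Nat.card_prod, Nat.card_prod, nat_card_alternatingGroup]
  norm_num [Nat.factorial]

/-- A word in the two cycles. -/
def evalAlt (w : List ℕ) : Equiv.Perm (Fin 5) := (w.map fun i => if i = 0 then c3 else c5).prod

theorem alt_covered : ∀ e : Equiv.Perm (Fin 5), Equiv.Perm.sign e = 1 →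
    (altWords.map evalAlt).contains e = true := by decide +kernel

theorem gens_perm : gp0 ∈ Wr ∧ gp1 ∈ Wr ∧ gp2 ∈ Wr ∧ gp3 ∈ Wr ∧ gp4 ∈ Wr ∧ gp5 ∈ Wr ∧ gp6 ∈ Wr ∧
    gp7 ∈ Wr ∧ gp8 ∈ Wr := by
  have h : ∀ a b : Equiv.Perm (Fin 5), Equiv.Perm.sign a = 1 → Equiv.Perm.sign b = 1 →
      Equiv.Perm.sumCongr a b ∈ Wr := fun a b ha hb =>
    Subgroup.subset_closure (Or.inl ⟨⟨a, ha⟩, ⟨b, hb⟩, rfl⟩)
  have hs : (Equiv.sumComm (Fin 5) (Fin 5) : Equiv.Perm (Fin 5 ⊕ Fin 5)) ∈ Wr :=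
    Subgroup.subset_closure (Or.inr rfl)
  refine ⟨?_, ?_, ?_, ?_, ?_, ?_, ?_, ?_, ?_⟩
  all_goals simp only [gp0, gp1, gp2, gp3, gp4, gp5, gp6, gp7, gp8]
  all_goals first
    | exact h _ _ (by decide +kernel) (by decide +kernel)
    | exact mul_mem (h _ _ (by decide +kernel) (by decide +kernel)) hs

/-- The generators' permutations by number. -/
def gpN (i : ℕ) : Equiv.Perm (Fin 5 ⊕ Fin 5) :=
  [gp0, gp1, gp2, gp3, gp4, gp5, gp6, gp7, gp8].getD i 1

theorem word_targets : (tw_c3.map gpN).prod = Equiv.Perm.sumCongr c3 1 ∧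
    (tw_c5.map gpN).prod = Equiv.Perm.sumCongr c5 1 ∧
    (tw_sw.map gpN).prod = Equiv.sumComm (Fin 5) (Fin 5) := by decide +kernel

theorem gpN_image (i : ℕ) : gpN i ∈ Φ.range := by
  have h : ∀ {w : List Op} {Ms : List ℕ} {π : Equiv.Perm (Fin 5 ⊕ Fin 5)},
      S.genB marks allPts w Ms π = true → π ∈ Φ.range := fun h => by
    obtain ⟨g, hg, -, hind⟩ := S.genB_spec marks mem_allPts h
    exact ⟨⟨g, hg⟩, S.perm_eq marks marks_lt marks_inj (g := ⟨g, hg⟩) hind⟩
  rcases lt_or_ge i 9 with hi | hi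
  · interval_cases i
    exacts [h gen0, h gen1, h gen2, h gen3, h gen4, h gen5, h gen6, h gen7, h gen8]
  · rw [gpN, List.getD_eq_default _ _ (by simpa using hi)]
    exact one_mem _

theorem wr_le_range : Wr ≤ Φ.range := by
  obtain ⟨e3, e5, es⟩ := word_targets
  have hw : ∀ l : List ℕ, (l.map gpN).prod ∈ Φ.range := fun l =>
    Subgroup.list_prod_mem _ fun x hx => by
      obtain ⟨i, -, rfl⟩ := List.mem_map.1 hx; exact gpN_image i
  have hsw : (Equiv.sumComm (Fin 5) (Fin 5) : Equiv.Perm (Fin 5 ⊕ Fin 5)) ∈ Φ.range := es ▸ hw _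
  have hl : ∀ a : alternatingGroup (Fin 5),
      Equiv.Perm.sumCongr (a : Equiv.Perm (Fin 5)) (1 : Equiv.Perm (Fin 5)) ∈ Φ.range := by
    intro a
    let H : Subgroup (Equiv.Perm (Fin 5)) :=
      Φ.range.comap ((Equiv.Perm.sumCongrHom (Fin 5) (Fin 5)).comp (MonoidHom.inl _ _))
    have hc : ∀ i : ℕ, (if i = 0 then c3 else c5) ∈ H := fun i => by
      show Equiv.Perm.sumCongr _ 1 ∈ Φ.range
      split
      exacts [e3 ▸ hw _, e5 ▸ hw _]
    have hmem := alt_covered (a : Equiv.Perm (Fin 5)) a.2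
    rw [List.contains_iff_mem, List.mem_map] at hmem
    obtain ⟨w, -, e⟩ := hmem
    have : (a : Equiv.Perm (Fin 5)) ∈ H := e ▸ Subgroup.list_prod_mem _ fun x hx => by
      obtain ⟨i, -, rfl⟩ := List.mem_map.1 hx; exact hc i
    exact this
  rw [Wr, alternatingFiveWreathTwo, Subgroup.closure_le]
  rintro _ (⟨a, b, rfl⟩ | rfl)
  · have e : Equiv.Perm.sumCongr (a : Equiv.Perm (Fin 5)) (b : Equiv.Perm (Fin 5)) =
        Equiv.Perm.sumCongr (a : Equiv.Perm (Fin 5)) 1 * (Equiv.sumComm (Fin 5) (Fin 5) *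
          Equiv.Perm.sumCongr (b : Equiv.Perm (Fin 5)) 1 * Equiv.sumComm (Fin 5) (Fin 5)) := by
      ext (i | i) <;> simp
    rw [e]
    exact mul_mem (hl a) (mul_mem (mul_mem hsw (hl b)) hsw)
  · exact hsw

/-! ### The count -/

theorem frames_length : S.frames.length ≤ 75 := by
  show ((List.range (2 ^ bas.length)).filter fun m =>
    decide (m ≠ 0) && normL (reps.getD m []) == 64).length ≤ 75
  decide +kernel

theorem fixWords_le : Sys.fixWords sig5 ≤ 16 := by decide +kernel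

theorem card_cent : Nat.card S.cent ≤ 72000 := by
  haveI : Fact (Nat.Prime 5) := ⟨by norm_num⟩
  obtain ⟨x, -, hx, -, ho, -⟩ := Cert.pairOK_spec Cert.pairs_ok.1
  have hG : ¬ 5 ^ 2 ∣ Nat.card M24 := by rw [card_M24]; norm_num
  have h60 : Nat.card (Subgroup.centralizer ({S.σ} : Set M24)) ≤ 60 :=
    (Cert.card_centralizer_eq hG ho orderOf_σ).le.trans
      ((Cert.card_centralizer_le hx Cert.bounds_ok.1).trans le_rfl)
  calc Nat.card S.cent ≤ S.frames.length * Nat.card ↥(S.cent ⊓ monoGroup) := S.card_cent_le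
    _ ≤ 75 * (60 * 16) := Nat.mul_le_mul frames_length
        (S.card_cent_mono_le.trans (Nat.mul_le_mul h60 fixWords_le))

/-- The elements of the domain with permutation in the wreath product. -/
noncomputable def wrDom : Subgroup Co0 := (Wr.comap Φ).map (S.dom marks).subtype

theorem wrDom_facts : wrDom = S.cent ∧ ∀ g : wrDom,
    Φ ⟨(g : Co0), by obtain ⟨y, -, e⟩ := g.2; exact e ▸ y.2⟩ = 1 → (g : Co0) ∈ Subgroup.zpowers ζ := by
  let f : (Wr.comap Φ) →* Wr := (Φ.comp (Wr.comap Φ).subtype).codRestrict Wr fun g => g.2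
  have hf : Function.Surjective f := fun p => by
    obtain ⟨g, hg⟩ := wr_le_range p.2
    exact ⟨⟨g, by show Φ g ∈ Wr; rw [hg]; exact p.2⟩, Subtype.ext hg⟩
  have hζd : ζ ∈ S.dom marks := ⟨ζ_cent, 1, ind_ζ⟩
  have hζ1 : Φ ⟨ζ, hζd⟩ = 1 := S.perm_eq marks marks_lt marks_inj (g := ⟨ζ, hζd⟩) ind_ζ
  let ζ' : Wr.comap Φ := ⟨⟨ζ, hζd⟩, by show Φ _ ∈ Wr; rw [hζ1]; exact one_mem _⟩
  have hk : Subgroup.zpowers ζ' ≤ f.ker := Subgroup.zpowers_le.2 (Subtype.ext hζ1)
  have ho : orderOf ζ' = 10 := by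
    rw [← orderOf_ζ, ← orderOf_injective ((S.dom marks).subtype.comp (Wr.comap Φ).subtype)
      (fun a b h => Subtype.ext (Subtype.ext h)) ζ']
    rfl
  have h10 : 10 ≤ Nat.card f.ker := by
    rw [← ho, ← Nat.card_zpowers]; exact Subgroup.card_le_of_le hk
  have hcard : Nat.card (Wr.comap Φ) = Nat.card Wr * Nat.card f.ker := by
    rw [Subgroup.card_eq_card_quotient_mul_card_subgroup f.ker,
      Nat.card_congr (QuotientGroup.quotientKerEquivOfSurjective f hf).toEquiv]
  have hle : wrDom ≤ S.cent := by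
    rintro _ ⟨g, -, rfl⟩; exact g.2.1
  have hmap : Nat.card wrDom = Nat.card (Wr.comap Φ) :=
    Subgroup.card_map_of_injective (S.dom marks).subtype_injective
  have hw := card_Wr_ge
  have hc := card_cent
  have hle' := Subgroup.card_le_of_le hle
  have h7 : 7200 * Nat.card f.ker ≤ Nat.card Wr * Nat.card f.ker := Nat.mul_le_mul_right _ hw
  have h8 : Nat.card Wr * 10 ≤ Nat.card Wr * Nat.card f.ker := Nat.mul_le_mul_left _ h10
  refine ⟨Subgroup.eq_of_le_of_card_ge hle (by omega), ?_⟩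
  have hker : f.ker = Subgroup.zpowers ζ' := (Subgroup.eq_of_le_of_card_ge hk (by
    rw [Nat.card_zpowers, ho]; omega)).symm
  rintro ⟨g, hg⟩ h1
  obtain ⟨y, hy, e⟩ := hg
  subst e
  have : (⟨y, hy⟩ : Wr.comap Φ) ∈ f.ker := Subtype.ext h1
  rw [hker, Subgroup.mem_zpowers_iff] at this
  obtain ⟨k, hk'⟩ := this
  exact ⟨k, by
    show ζ ^ k = _
    have := congrArg (fun w : Wr.comap Φ => (((w : S.dom marks)) : Co0)) hk'
    simpa [ζ'] using this⟩

theorem cent_dom {g : Co0} (hg : g ∈ S.cent) : g ∈ S.dom marks := by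
  rw [← wrDom_facts.1] at hg
  obtain ⟨y, -, rfl⟩ := hg
  exact y.2

theorem cent_wr {g : Co0} (hg : g ∈ S.cent) : Φ ⟨g, cent_dom hg⟩ ∈ Wr := by
  have hg' := hg
  rw [← wrDom_facts.1] at hg'
  obtain ⟨y, hy, rfl⟩ := hg'
  exact hy

/-- The permutation representation of the centraliser. -/
noncomputable def ψ : S.cent →* Wr :=
  (Φ.comp ((S.cent.subtype).codRestrict (S.dom marks) fun g => cent_dom g.2)).codRestrict Wr
    fun g => cent_wr g.2

theorem ψ_surjective : Function.Surjective ψ := fun p => by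
  obtain ⟨g, hg⟩ := wr_le_range p.2
  exact ⟨⟨(g : Co0), g.2.1⟩, Subtype.ext hg⟩

theorem ψ_eq_one_of_ind {g : S.cent} (h : S.Ind marks (g : Co0) 1) : ψ g = 1 :=
  Subtype.ext (S.perm_eq marks marks_lt marks_inj (g := ⟨(g : Co0), cent_dom g.2⟩) h)

theorem ψ_ker {g : S.cent} (h : ψ g = 1) : (g : Co0) ∈ Subgroup.zpowers ζ :=
  wrDom_facts.2 ⟨(g : Co0), by rw [wrDom_facts.1]; exact g.2⟩ (congrArg Subtype.val h)

theorem mk_mem_zpowers {g : Co0} (h : g ∈ Subgroup.zpowers ζ) :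
    (QuotientGroup.mk g : Spor.Co1) ∈ Subgroup.zpowers (QuotientGroup.mk S.rho : Spor.Co1) := by
  have e : (QuotientGroup.mk ζ : Spor.Co1) = QuotientGroup.mk S.rho := by
    show QuotientGroup.mk' (Subgroup.center Co0) (negAut * S.rho) = _
    rw [map_mul, show QuotientGroup.mk' (Subgroup.center Co0) negAut = 1 from
      (QuotientGroup.eq_one_iff negAut).2 negAut_central, one_mul]
    rfl
  obtain ⟨k, rfl⟩ := Subgroup.mem_zpowers_iff.1 h
  exact Subgroup.mem_zpowers_iff.2 ⟨k, by rw [← e]; rfl⟩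

end CfsgLib.HNSect
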