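/-
The form on the fixed classes of the element of order 5 is nondegenerate, and small facts on the
wreath product.
-/
import Cfsg.Agent.HNSect.Group

set_option autoImplicit false
set_option maxRecDepth 100000

namespace CfsgLib.HNSect

open Cfsg CfsgLib.Golay CfsgLib.Leech CfsgLib.LeechFix

attribute [local irreducible] shortVecs halfTable quarterTable codeFinset

theorem gram_ok : (List.range 256).all (fun m => decide (m = 0) ||
    (List.range 8).any fun i => dotL (combV bas m) (combV bas (2 ^ i)) % 16 != 0) = true := by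
  decide +kernel

theorem gram {m : ℕ} (hm : m < S.N)
    (h : ∀ i < 8, (16 : ℤ) ∣ dotInt (S.vec' m : GolayPt → ℤ) (S.vec' (2 ^ i) : GolayPt → ℤ)) :
    m = 0 := by
  have h1 := List.all_eq_true.1 gram_ok m (List.mem_range.2 hm)
  simp only [Bool.or_eq_true, decide_eq_true_eq, List.any_eq_true, List.mem_range, bne_iff_ne] at h1
  rcases h1 with h1 | ⟨i, hi, hne⟩
  · exact h1
  exfalso
  refine hne (Int.emod_eq_zero_of_dvd ?_)
  rw [← dot_ofL (combV_spec basis_ok.1 m).1 (combV_spec basis_ok.1 _).1]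
  exact h i hi

theorem card_Wr : Nat.card Wr = 7200 := by
  refine le_antisymm ?_ card_Wr_ge
  have hk : Subgroup.zpowers (⟨ζ, ζ_cent⟩ : S.cent) ≤ ψ.ker :=
    Subgroup.zpowers_le.2 (ψ_eq_one_of_ind (g := ⟨ζ, ζ_cent⟩) ind_ζ)
  have h1 := Subgroup.card_le_of_le hk
  rw [Nat.card_zpowers, ← Subgroup.orderOf_coe, orderOf_ζ] at h1
  have h2 : Nat.card S.cent = Nat.card Wr * Nat.card ψ.ker := by
    rw [Subgroup.card_eq_card_quotient_mul_card_subgroup ψ.ker,
      Nat.card_congr (QuotientGroup.quotientKerEquivOfSurjective ψ ψ_surjective).toEquiv]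
  have h3 := card_cent
  have h4 : Nat.card Wr * 10 ≤ Nat.card Wr * Nat.card ψ.ker := Nat.mul_le_mul_left _ h1
  omega

theorem wrElt_surj (p : Wr) : ∃ x, wrElt x = (p : Equiv.Perm (Fin 5 ⊕ Fin 5)) := by
  let F : (alternatingGroup (Fin 5) × alternatingGroup (Fin 5)) × Bool → Wr :=
    fun x => ⟨wrElt x, wrElt_mem x⟩
  have hinj : Function.Injective F := by
    rintro ⟨⟨a, b⟩, s⟩ ⟨⟨a', b'⟩, s'⟩ h
    have h' : ∀ j, wrElt ((a, b), s) j = wrElt ((a', b'), s') j := fun j =>
      congrArg (fun p : Wr => (p : Equiv.Perm (Fin 5 ⊕ Fin 5)) j) h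
    have hs : s = s' := by
      have := h' (Sum.inl 0)
      cases s <;> cases s' <;> simp [wrElt] at this ⊢
    subst hs
    have ha : a = a' := Subtype.ext (Equiv.ext fun i => by
      cases s
      · simpa [wrElt] using h' (Sum.inl i)
      · simpa [wrElt] using h' (Sum.inr i))
    have hb : b = b' := Subtype.ext (Equiv.ext fun i => by
      cases s
      · simpa [wrElt] using h' (Sum.inr i)
      · simpa [wrElt] using h' (Sum.inl i))
    subst ha; subst hb; rfl
  obtain ⟨x, hx⟩ := (hinj.bijective_of_nat_card_le (by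
    rw [card_Wr, Nat.card_prod, Nat.card_prod, nat_card_alternatingGroup]
    norm_num [Nat.factorial])).2 p
  exact ⟨x, congrArg Subtype.val hx⟩

theorem a5_center : ∀ a : Equiv.Perm (Fin 5), a * c3 = c3 * a → a * c5 = c5 * a → a = 1 := by
  decide +kernel

theorem cycles_even : Equiv.Perm.sign c3 = 1 ∧ Equiv.Perm.sign c5 = 1 ∧ c3 ≠ 1 := by decide +kernel

/-- The pair homomorphism into the wreath product. -/
def pairHom : alternatingGroup (Fin 5) × alternatingGroup (Fin 5) →* Wr where
  toFun x := ⟨Equiv.Perm.sumCongr (x.1 : Equiv.Perm (Fin 5)) x.2,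
    Subgroup.subset_closure (Or.inl ⟨x.1, x.2, rfl⟩)⟩
  map_one' := Subtype.ext (by simp)
  map_mul' a b := Subtype.ext (by
    show _ = Equiv.Perm.sumCongr _ _ * Equiv.Perm.sumCongr _ _
    rw [Equiv.Perm.sumCongr_mul]; rfl)

/-- A normal solvable subgroup of the wreath product is trivial. -/
theorem solvable_normal_bot (N : Subgroup Wr) [N.Normal] [Group.IsSolvable N] : N = ⊥ := by
  haveI : IsSimpleGroup (alternatingGroup (Fin 5)) := alternatingGroup.isSimpleGroup_five
  have hns : ¬ Group.IsSolvable (alternatingGroup (Fin 5)) := fun h => by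
    have hc := IsSimpleGroup.comm_iff_isSolvable.2 h
    have h3 : (⟨c3, cycles_even.1⟩ : alternatingGroup (Fin 5)) * ⟨c5, cycles_even.2.1⟩ =
        ⟨c5, cycles_even.2.1⟩ * ⟨c3, cycles_even.1⟩ := hc _ _
    have h3' : c3 * c5 = c5 * c3 := congrArg Subtype.val h3
    exact cycles_even.2.2 (a5_center c3 rfl h3')
  set N' := N.comap pairHom with hN'
  have hinj : Function.Injective pairHom := fun a b h => by
    have h' := fun j => congrArg (fun p : Wr => (p : Equiv.Perm (Fin 5 ⊕ Fin 5)) j) h
    exact Prod.ext (Subtype.ext (Equiv.ext fun i => by simpa [pairHom] using h' (Sum.inl i)))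
      (Subtype.ext (Equiv.ext fun i => by simpa [pairHom] using h' (Sum.inr i)))
  haveI hsol : Group.IsSolvable N' :=
    Group.isSolvable_of_isSolvable_injective
      (f := (pairHom.comp N'.subtype).codRestrict N fun x => x.2)
      fun a b h => Subtype.ext (hinj (congrArg Subtype.val h))
  have hproj : ∀ (f : alternatingGroup (Fin 5) × alternatingGroup (Fin 5) →* alternatingGroup (Fin 5)),
      Function.Surjective f → ∀ x ∈ N', f x = 1 := by
    intro f hf x hx
    have hn : (N'.map f).Normal := Subgroup.Normal.map inferInstance _ hf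
    rcases hn.eq_bot_or_eq_top with h | h
    · exact Subgroup.mem_bot.1 (h ▸ Subgroup.mem_map_of_mem f hx)
    · exfalso
      refine hns (Group.isSolvable_of_surjective (f := f.comp N'.subtype) ?_)
      rw [← MonoidHom.range_eq_top, MonoidHom.range_comp, Subgroup.range_subtype, h]
  have hbot : ∀ x, pairHom x ∈ N → x = 1 := fun x hx => Prod.ext
    (hproj (MonoidHom.fst _ _) Prod.fst_surjective x hx)
    (hproj (MonoidHom.snd _ _) Prod.snd_surjective x hx)
  rw [Subgroup.eq_bot_iff_forall]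
  intro n hn
  obtain ⟨⟨⟨a, b⟩, s⟩, hx⟩ := wrElt_surj n
  have hcomm : ∀ y, n * pairHom y = pairHom y * n := by
    intro y
    -- the commutator lies in both normal subgroups
    have hP : ∀ w : Wr, ∀ y, ∃ y', w * pairHom y * w⁻¹ = pairHom y' := by
      intro w y
      obtain ⟨⟨⟨c, d⟩, t⟩, hw⟩ := wrElt_surj w
      cases t
      · refine ⟨(c, d) * y * (c, d)⁻¹, ?_⟩
        rw [map_mul, map_mul, map_inv, show w = pairHom (c, d) from Subtype.ext hw.symm]
      · refine ⟨(c, d) * (y.2, y.1) * (c, d)⁻¹, ?_⟩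
        have hsw : (⟨Equiv.sumComm (Fin 5) (Fin 5), Subgroup.subset_closure (Or.inr rfl)⟩ : Wr) *
            pairHom y * (⟨Equiv.sumComm (Fin 5) (Fin 5), Subgroup.subset_closure (Or.inr rfl)⟩ : Wr)⁻¹ =
              pairHom (y.2, y.1) := by
          rw [mul_inv_eq_iff_eq_mul]
          refine Subtype.ext (Equiv.ext fun j => ?_)
          rcases j with i | i <;> simp [pairHom]
        rw [map_mul, map_mul, map_inv, ← hsw, show w = pairHom (c, d) *
          ⟨Equiv.sumComm (Fin 5) (Fin 5), Subgroup.subset_closure (Or.inr rfl)⟩ from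
            Subtype.ext hw.symm]
        group
    obtain ⟨y', hy'⟩ := hP n y
    have hm : pairHom (y' * y⁻¹) ∈ N := by
      rw [map_mul, map_inv, ← hy',
        show n * pairHom y * n⁻¹ * (pairHom y)⁻¹ = n * (pairHom y * n⁻¹ * (pairHom y)⁻¹) by group]
      exact mul_mem hn ((inferInstance : N.Normal).conj_mem _ (inv_mem hn) _)
    rw [mul_inv_eq_one.1 (hbot _ hm)] at hy'
    exact mul_inv_eq_iff_eq_mul.1 hy'
  have hval : ∀ (y : alternatingGroup (Fin 5) × alternatingGroup (Fin 5)) j,
      wrElt ((a, b), s) (Equiv.Perm.sumCongr (y.1 : Equiv.Perm (Fin 5)) y.2 j) =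
        Equiv.Perm.sumCongr (y.1 : Equiv.Perm (Fin 5)) y.2 (wrElt ((a, b), s) j) := fun y j => by
    have h := congrArg (fun p : Wr => (p : Equiv.Perm (Fin 5 ⊕ Fin 5)) j) (hcomm y)
    simp only [Subgroup.coe_mul, Equiv.Perm.mul_apply, ← hx] at h
    exact h
  cases s
  · have key : ∀ c : Equiv.Perm (Fin 5), Equiv.Perm.sign c = 1 →
        (a : Equiv.Perm (Fin 5)) * c = c * a ∧ (b : Equiv.Perm (Fin 5)) * c = c * b := fun c hc =>
      ⟨Equiv.ext fun i => by simpa [wrElt] using hval (⟨c, hc⟩, ⟨c, hc⟩) (Sum.inl i),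
        Equiv.ext fun i => by simpa [wrElt] using hval (⟨c, hc⟩, ⟨c, hc⟩) (Sum.inr i)⟩
    have ha := a5_center a (key _ cycles_even.1).1 (key _ cycles_even.2.1).1
    have hb := a5_center b (key _ cycles_even.1).2 (key _ cycles_even.2.1).2
    refine Subtype.ext ?_
    rw [← hx]
    simp [wrElt, ha, hb]
  · exfalso
    refine cycles_even.2.2 (Equiv.ext fun i => ?_)
    have h := hval (⟨c3, cycles_even.1⟩, 1) (Sum.inr ((a : Equiv.Perm (Fin 5))⁻¹ i))
    simp [wrElt] at h
    simpa using h.symm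

end CfsgLib.HNSect
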