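/-
A Sylow 5-subgroup of the joint centraliser of the central involution and a conjugate of it: in a
suitable frame its generator acts on the lattice as the chosen element of order 5.
-/
import Cfsg.Agent.HNSect.Group
import Cfsg.Agent.Monster.PrimeSection

set_option autoImplicit false
set_option linter.style.haveILetI false
set_option linter.constructorNameAsVariable false

namespace CfsgLib.HNSect

open Cfsg CfsgLib.Golay CfsgLib.Leech CfsgLib.Monster

attribute [local irreducible] shortVecs halfTable quarterTable codeFinset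

theorem not_25_dvd_mono : ¬ 5 ^ 2 ∣ Nat.card monoGroup := by
  rw [card_monoGroup]; norm_num

theorem five_dvd_m24 : 5 ∣ Nat.card M24 := by
  rw [card_M24]; norm_num

variable {G : Type*} [Group G] [Finite G] {z s : G} (D : Data z)

/-- The joint centraliser inside the centraliser. -/
def pairCent (z s : G) : Subgroup G := Subgroup.centralizer ({z, s} : Set G)

theorem mem_pairCent {x : G} : x ∈ pairCent z s ↔ x * z = z * x ∧ x * s = s * x := by
  simp only [pairCent, Subgroup.mem_centralizer_iff, Set.mem_insert_iff, Set.mem_singleton_iff,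
    forall_eq_or_imp, forall_eq, eq_comm (a := z * x), eq_comm (a := s * x)]

theorem pairCent_le : pairCent z s ≤ Subgroup.centralizer ({z} : Set G) := fun _ hx =>
  Subgroup.mem_centralizer_singleton_iff.2 (mem_pairCent.1 hx).1

theorem card_pairCent_eq :
    Nat.card ((pairCent z s).subgroupOf (Subgroup.centralizer ({z} : Set G))) =
      Nat.card (pairCent z s) :=
  Nat.card_congr (Subgroup.subgroupOfEquivOfLe pairCent_le).toEquiv

theorem stab_image (hs : s ∈ D.Q) (hs1 : s ≠ 1) (hsz : s ≠ z) {v : leechLattice}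
    (hv : D.cl s = cls (v : GolayPt → ℤ)) {g₀ : Co0} (h₀ : g₀ • v = eightAt none)
    {c : Subgroup.centralizer ({z} : Set G)} (hc : (c : G) ∈ pairCent z s) :
    ∃ g : Co0, D.π c = QuotientGroup.mk g ∧ g₀ * g * g₀⁻¹ ∈ monoGroup := by
  obtain ⟨g, hg⟩ := exists_lift D c
  refine ⟨g, hg, (cls_fix_iff_mono h₀ g).1 ((image_fix_iff D hs hs1 hsz hv g).1 ⟨c, ?_, hg⟩)⟩
  exact mul_inv_eq_iff_eq_mul.2 (mem_pairCent.1 hc).2

theorem five_part (hs : s ∈ D.Q) (hsz : s ≠ z) (hconj : IsConj z s) :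
    5 ∣ Nat.card (pairCent z s) ∧ ¬ 5 ^ 2 ∣ Nat.card (pairCent z s) := by
  obtain ⟨g, hg⟩ := isConj_iff.1 hconj
  obtain ⟨v, hv, hn⟩ := norm_of_conj D hs hsz hg
  obtain ⟨hs1, -⟩ := ne_of_cls D hs hv (Or.inr (Or.inr hn))
  obtain ⟨g₀, h₀⟩ := frame_transitive (v := v) (w := eightAt none) hn (sqNorm_eightAt none)
  rw [← card_pairCent_eq (z := z) (s := s)]
  set M := (pairCent z s).subgroupOf (Subgroup.centralizer ({z} : Set G))
  constructor
  · obtain ⟨-, -, -, -, K, hK, -, -, ⟨e⟩⟩ := conj_structure D hs hsz hg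
    have hle : K ≤ M.map D.π := fun x hx => by
      obtain ⟨c, hcs, hc⟩ := hK x hx
      exact ⟨c, mem_pairCent.2 ⟨Subgroup.mem_centralizer_singleton_iff.1 c.2,
        mul_inv_eq_iff_eq_mul.1 hcs⟩, hc⟩
    have h5 : 5 ∣ Nat.card K := by rw [Nat.card_congr e.toEquiv]; exact five_dvd_m24
    exact h5.trans ((Subgroup.card_dvd_of_le hle).trans (Subgroup.card_map_dvd M D.π))
  · intro hd
    let I : Subgroup Spor.Co1 :=
      monoGroup.map ((QuotientGroup.mk' (Subgroup.center Co0)).comp (MulAut.conj g₀⁻¹).toMonoidHom)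
    have hI : ∀ x ∈ M, D.π x ∈ I := fun x hx => by
      obtain ⟨a, ha, hm⟩ := stab_image D hs hs1 hsz hv h₀ hx
      refine ⟨g₀ * a * g₀⁻¹, hm, ?_⟩
      rw [ha]
      show QuotientGroup.mk (g₀⁻¹ * (g₀ * a * g₀⁻¹) * g₀⁻¹⁻¹) = _
      congr 1; group
    have h1 := hd.trans ((card_dvd_of_image D M hI).trans
      (Nat.mul_dvd_mul_left _ (Subgroup.card_map_dvd monoGroup _)))
    rw [card_monoGroup] at h1
    norm_num at h1

theorem card_eq_five (hs : s ∈ D.Q) (hsz : s ≠ z) (hconj : IsConj z s) {B : Subgroup G}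
    (hBp : Nat.card B = 5 ^ (Nat.card (pairCent z s)).factorization 5) : Nat.card B = 5 := by
  obtain ⟨h1, h2⟩ := five_part D hs hsz hconj
  have h5 : Nat.Prime 5 := by norm_num
  have e1 := h5.factorization_pos_of_dvd Nat.card_pos.ne' h1
  have e2 : (Nat.card (pairCent z s)).factorization 5 ≤ 1 := by
    by_contra h
    exact h2 ((h5.pow_dvd_iff_le_factorization Nat.card_pos.ne').2 (by omega))
  rw [hBp, show (Nat.card (pairCent z s)).factorization 5 = 1 by omega, pow_one]

/-- A frame in which the Sylow subgroup is generated by a lift of the standard element. -/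
theorem exists_standard (hs : s ∈ D.Q) (hsz : s ≠ z) (hconj : IsConj z s) {B : Subgroup G}
    (hB : B ≤ pairCent z s) (hBp : Nat.card B = 5 ^ (Nat.card (pairCent z s)).factorization 5) :
    ∃ (D' : Data z) (b : Subgroup.centralizer ({z} : Set G)),
      D'.Q = D.Q ∧ orderOf (b : G) = 5 ∧ B = Subgroup.zpowers (b : G) ∧
      D'.π b = QuotientGroup.mk S.rho ∧ D'.cl s = cls (eightAt none : GolayPt → ℤ) := by
  haveI : Fact (Nat.Prime 5) := ⟨by norm_num⟩
  have h5 : Nat.Prime 5 := by norm_num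
  have hc5 := card_eq_five D hs hsz hconj hBp
  obtain ⟨b₀, hb₀⟩ := exists_prime_orderOf_dvd_card' (G := B) 5 (by rw [hc5])
  rw [← Subgroup.orderOf_coe] at hb₀
  have hzB : ∀ x : G, x ∈ B → orderOf x = 5 → B = Subgroup.zpowers x := fun x hx ho =>
    (Subgroup.eq_of_le_of_card_ge (Subgroup.zpowers_le.2 hx) (by rw [hc5, Nat.card_zpowers, ho])).symm
  obtain ⟨g, hg⟩ := isConj_iff.1 hconj
  obtain ⟨v, hv, hn⟩ := norm_of_conj D hs hsz hg
  obtain ⟨hs1, -⟩ := ne_of_cls D hs hv (Or.inr (Or.inr hn))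
  obtain ⟨g₀, h₀⟩ := frame_transitive (v := v) (w := eightAt none) hn (sqNorm_eightAt none)
  let bC : Subgroup.centralizer ({z} : Set G) := ⟨(b₀ : G), pairCent_le (hB b₀.2)⟩
  obtain ⟨a, ha, hm⟩ := stab_image D hs hs1 hsz hv h₀ (c := bC) (hB b₀.2)
  set m := g₀ * a * g₀⁻¹ with hmdef
  let p := QuotientGroup.mk' (Subgroup.center Co0)
  have hpm : orderOf (p m) = 5 := by
    have e : p m = MulAut.conj (p g₀) (D.π bC) := by
      rw [ha, hmdef, map_mul, map_mul, map_inv]; rfl
    rw [e, MulEquiv.orderOf_eq, orderOf_π D h5 (by norm_num) (b := bC) hb₀]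
  have hcen : (m ^ 5) * (m ^ 5) = 1 := center_sq ((QuotientGroup.eq_one_iff _).1 (by
    show p (m ^ 5) = 1
    rw [map_pow, ← hpm, pow_orderOf_eq_one]))
  have hp6 : p (m ^ 6) = p m := by
    rw [map_pow, pow_succ, ← hpm, pow_orderOf_eq_one, one_mul]
  have ho6 : orderOf (⟨m ^ 6, pow_mem hm 6⟩ : monoGroup) = 5 := by
    rw [← Subgroup.orderOf_coe]
    refine orderOf_eq_prime ?_ fun e => ?_
    · show (m ^ 6) ^ 5 = 1
      rw [← pow_mul, show 6 * 5 = 5 * 2 * 3 by norm_num, pow_mul, pow_mul, pow_two, hcen, one_pow]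
    · have h' : m ^ 6 = 1 := e
      rw [← hp6, h', map_one, orderOf_one] at hpm
      omega
  have hor : orderOf (⟨S.rho, S.rho_mem_mono⟩ : monoGroup) = 5 := by
    rw [← Subgroup.orderOf_coe]; exact orderOf_rho
  obtain ⟨k, hk5, hk⟩ := PrimeNorm.exists_isConj_pow not_25_dvd_mono hor ho6
  obtain ⟨h, hh⟩ := isConj_iff.1 hk
  have hh' : (h : Co0) * S.rho ^ k * (h : Co0)⁻¹ = m ^ 6 := congrArg Subtype.val hh
  obtain ⟨j, -, hj⟩ := Nat.exists_mul_mod_eq_one_of_coprime ((h5.coprime_iff_not_dvd.2 hk5).symm)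
    (by norm_num : 1 < 5)
  have hrj : S.rho ^ (k * j) = S.rho := by
    conv_rhs => rw [← pow_one S.rho]
    rw [pow_eq_pow_iff_modEq, orderOf_rho]
    exact hj
  have hbj : orderOf ((bC : G) ^ j) = 5 := by
    have hcop : (orderOf (bC : G)).Coprime j := by
      rw [show orderOf (bC : G) = 5 from hb₀, h5.coprime_iff_not_dvd]
      intro hd
      have := (Nat.modEq_zero_iff_dvd.2 (hd.mul_left k))
      rw [Nat.ModEq] at this
      omega
    rw [hcop.orderOf_pow]
    exact hb₀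
  refine ⟨twist D (g₀⁻¹ * (h : Co0)), bC ^ j, rfl, by rw [SubmonoidClass.coe_pow]; exact hbj,
    hzB _ (by rw [SubmonoidClass.coe_pow]; exact pow_mem b₀.2 j) (by rw [SubmonoidClass.coe_pow]; exact hbj),
    ?_, ?_⟩
  · rw [twist_π, map_pow]
    have e1 : D.π bC = p g₀⁻¹ * p (h : Co0) * p S.rho ^ k * (p (h : Co0))⁻¹ * p g₀ := by
      have e2 : p m = p (h : Co0) * p S.rho ^ k * (p (h : Co0))⁻¹ := by
        rw [← hp6, ← hh', map_mul, map_mul, map_inv, map_pow]
      calc D.π bC = p g₀⁻¹ * p m * p g₀ := by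
            rw [ha, hmdef, map_mul, map_mul, map_inv]
            show p a = _
            group
        _ = _ := by rw [e2]; group
    rw [e1, show QuotientGroup.mk (g₀⁻¹ * (h : Co0)) = p g₀⁻¹ * p (h : Co0) from map_mul p _ _,
      show (p g₀⁻¹ * p (h : Co0) * p S.rho ^ k * (p (h : Co0))⁻¹ * p g₀) ^ j =
        (p g₀⁻¹ * p (h : Co0)) * (p S.rho ^ k) ^ j * (p g₀⁻¹ * p (h : Co0))⁻¹ by
        rw [← conj_pow]; congr 1]
    rw [← pow_mul, ← map_pow, hrj]
    show _ = p S.rho
    group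
  · show twistCl D _ s = _
    rw [twistCl_eq D _ hv, mul_inv_rev, inv_inv, mul_smul, h₀]
    exact (inv_mem h.2 : (h : Co0)⁻¹ ∈ monoGroup)

end CfsgLib.HNSect
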