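/-
An element centralising the element of order 5 and moving the central involution to its conjugate.
-/
import Cfsg.Agent.HNSect.Fixed

set_option autoImplicit false
set_option linter.style.haveILetI false
set_option linter.constructorNameAsVariable false

namespace CfsgLib.HNSect

open Cfsg CfsgLib.Golay CfsgLib.Leech CfsgLib.Monster CfsgLib.LeechFix

attribute [local irreducible] shortVecs halfTable quarterTable codeFinset

variable {G : Type*} [Group G] [Finite G] {z s : G} (D : Data z)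
  {b : Subgroup.centralizer ({z} : Set G)}

theorem tau_rho : permHom τ * S.rho * (permHom τ)⁻¹ = S.rho ^ 2 := by
  show permHom τ * permHom σ * (permHom τ)⁻¹ = permHom σ ^ 2
  rw [← map_mul, ← map_inv, ← map_mul, ← map_pow, tau_conj]

theorem exists_swap (hb : orderOf (b : G) = 5) (hπ : D.π b = QuotientGroup.mk S.rho)
    (hs : s ∈ D.Q) (hsz : s ≠ z) (hconj : IsConj z s)
    (hcs : D.cl s = cls (eightAt none : GolayPt → ℤ)) (hbs : (b : G) * s = s * (b : G)) :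
    ∃ x : G, x * (b : G) = (b : G) * x ∧ x * z * x⁻¹ = s := by
  haveI : Fact (Nat.Prime 5) := ⟨five_prime⟩
  obtain ⟨g, hg⟩ := isConj_iff.1 hconj
  have hn : sqNorm (eightAt none : GolayPt → ℤ) = 64 := sqNorm_eightAt none
  obtain ⟨hs1, -⟩ := ne_of_cls D hs hcs (Or.inr (Or.inr hn))
  -- an element exchanging the two involutions
  have ht := z_mem_conj D hs hsz hg
  have htz : g⁻¹ * z * g ≠ z := fun e => hsz (by
    rw [← hg]
    calc g * z * g⁻¹ = g * (g⁻¹ * z * g) * g⁻¹ := by rw [e]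
      _ = z := by group)
  have htconj : g⁻¹ * z * (g⁻¹)⁻¹ = g⁻¹ * z * g := by rw [inv_inv]
  obtain ⟨w, hw, hwn⟩ := norm_of_conj D ht htz htconj
  obtain ⟨k₀, hk₀⟩ := frame_transitive (v := w) (w := eightAt none) hwn hn
  obtain ⟨ht1, -⟩ := ne_of_cls D ht hw (Or.inr (Or.inr hwn))
  obtain ⟨c, -, hc⟩ := conj_of_cls D ht hs ht1 htz hw hcs (g := k₀) (by rw [hk₀])
  set g' := g * (c : G)⁻¹ with hg'
  have hcz : (c : G)⁻¹ * z * (c : G) = z := by
    have h := z_comm (inv_mem c.2)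
    rwa [inv_inv] at h
  have h1 : g' * z * g'⁻¹ = s := by
    rw [← hg]
    calc g' * z * g'⁻¹ = g * ((c : G)⁻¹ * z * (c : G)) * g⁻¹ := by rw [hg']; group
      _ = g * z * g⁻¹ := by rw [hcz]
  have h2 : g' * s * g'⁻¹ = z := by
    calc g' * s * g'⁻¹ = g * ((c : G)⁻¹ * ((c : G) * (g⁻¹ * z * g) * (c : G)⁻¹) * (c : G)) * g⁻¹ := by
          rw [hc, hg']; group
      _ = z := by group
  -- correct it to normalise the cyclic group
  have hbL : (b : G) ∈ pairCent z s :=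
    mem_pairCent.2 ⟨Subgroup.mem_centralizer_singleton_iff.1 b.2, hbs⟩
  have hb1 : g' * (b : G) * g'⁻¹ ∈ pairCent z s := by
    refine mem_pairCent.2 ⟨?_, ?_⟩
    · calc g' * (b : G) * g'⁻¹ * z = g' * (b : G) * g'⁻¹ * (g' * s * g'⁻¹) := by rw [h2]
        _ = g' * ((b : G) * s) * g'⁻¹ := by group
        _ = g' * (s * (b : G)) * g'⁻¹ := by rw [hbs]
        _ = (g' * s * g'⁻¹) * (g' * (b : G) * g'⁻¹) := by group
        _ = z * (g' * (b : G) * g'⁻¹) := by rw [h2]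
    · calc g' * (b : G) * g'⁻¹ * s = g' * (b : G) * g'⁻¹ * (g' * z * g'⁻¹) := by rw [h1]
        _ = g' * ((b : G) * z) * g'⁻¹ := by group
        _ = g' * (z * (b : G)) * g'⁻¹ := by rw [Subgroup.mem_centralizer_singleton_iff.1 b.2]
        _ = (g' * z * g'⁻¹) * (g' * (b : G) * g'⁻¹) := by group
        _ = s * (g' * (b : G) * g'⁻¹) := by rw [h1]
  have hL := (five_part D hs hsz hconj).2
  have ho : orderOf (⟨(b : G), hbL⟩ : pairCent z s) = 5 := by rw [← Subgroup.orderOf_coe]; exact hb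
  have ho' : orderOf (⟨g' * (b : G) * g'⁻¹, hb1⟩ : pairCent z s) = 5 := by
    rw [← Subgroup.orderOf_coe]
    exact (SemiconjBy.orderOf_eq (a := g') (x := (b : G)) (y := g' * (b : G) * g'⁻¹)
      (by unfold SemiconjBy; group)).symm.trans hb
  obtain ⟨k, hk5, hk⟩ := PrimeNorm.exists_isConj_pow hL ho ho'
  obtain ⟨l, hl⟩ := isConj_iff.1 hk
  have hl' : (l : G) * (b : G) ^ k * (l : G)⁻¹ = g' * (b : G) * g'⁻¹ := congrArg Subtype.val hl
  obtain ⟨hlz, hls⟩ := mem_pairCent.1 l.2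
  set g₂ := (l : G)⁻¹ * g' with hg₂
  have h3 : g₂ * (b : G) * g₂⁻¹ = (b : G) ^ k := by
    calc g₂ * (b : G) * g₂⁻¹ = (l : G)⁻¹ * (g' * (b : G) * g'⁻¹) * (l : G) := by rw [hg₂]; group
      _ = (b : G) ^ k := by rw [← hl']; group
  have h4 : g₂ * z * g₂⁻¹ = s := by
    calc g₂ * z * g₂⁻¹ = (l : G)⁻¹ * (g' * z * g'⁻¹) * (l : G) := by rw [hg₂]; group
      _ = (l : G)⁻¹ * (s * (l : G)) := by rw [h1]; group
      _ = s := by rw [← hls]; group
  -- a doubling element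
  obtain ⟨c₂, hc₂s, hc₂⟩ := (image_fix_iff D hs hs1 hsz hcs (permHom τ)).2 (permHom_mem τ)
  obtain ⟨y, hyL, hy, -, -⟩ := adjust D five_prime (by norm_num) (M := pairCent z s) (b := b) (c := c₂)
    hbL (mem_pairCent.2 ⟨Subgroup.mem_centralizer_singleton_iff.1 c₂.2,
      mul_inv_eq_iff_eq_mul.1 hc₂s⟩) hb (a := 2) (by
      rw [hc₂, hπ]
      show QuotientGroup.mk' (Subgroup.center Co0) (permHom τ) * QuotientGroup.mk' _ S.rho *
        (QuotientGroup.mk' _ (permHom τ))⁻¹ = (QuotientGroup.mk' _ S.rho) ^ 2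
      rw [← map_mul, ← map_inv, ← map_mul, ← map_pow, tau_rho])
  obtain ⟨hyz, hys⟩ := mem_pairCent.1 hyL
  have hys' : (y : G) * s * (y : G)⁻¹ = s := mul_inv_eq_iff_eq_mul.2 hys
  have hstep : ∀ n : ℕ,
      ((y : G) ^ n * g₂) * (b : G) * ((y : G) ^ n * g₂)⁻¹ = (b : G) ^ (k * 2 ^ n) ∧
      ((y : G) ^ n * g₂) * z * ((y : G) ^ n * g₂)⁻¹ = s := by
    intro n
    induction n with
    | zero => simp [h3, h4]
    | succ n ih =>
      constructor
      · calc (y : G) ^ (n + 1) * g₂ * (b : G) * ((y : G) ^ (n + 1) * g₂)⁻¹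
            = (y : G) * (((y : G) ^ n * g₂) * (b : G) * ((y : G) ^ n * g₂)⁻¹) * (y : G)⁻¹ := by
              rw [pow_succ']; group
          _ = ((y : G) * (b : G) * (y : G)⁻¹) ^ (k * 2 ^ n) := by rw [ih.1, conj_pow]
          _ = _ := by rw [hy, ← pow_mul]; congr 1; ring
      · calc (y : G) ^ (n + 1) * g₂ * z * ((y : G) ^ (n + 1) * g₂)⁻¹
            = (y : G) * (((y : G) ^ n * g₂) * z * ((y : G) ^ n * g₂)⁻¹) * (y : G)⁻¹ := by
              rw [pow_succ']; group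
          _ = s := by rw [ih.2, hys']
  obtain ⟨n, hn⟩ : ∃ n : ℕ, k * 2 ^ n % 5 = 1 := by
    have : k % 5 ≠ 0 := fun h => hk5 (Nat.dvd_of_mod_eq_zero h)
    rcases (by omega : k % 5 = 1 ∨ k % 5 = 2 ∨ k % 5 = 3 ∨ k % 5 = 4) with h | h | h | h
    · exact ⟨0, by norm_num; omega⟩
    · exact ⟨3, by norm_num; omega⟩
    · exact ⟨1, by norm_num; omega⟩
    · exact ⟨2, by norm_num; omega⟩
  refine ⟨(y : G) ^ n * g₂, mul_inv_eq_iff_eq_mul.1 ?_, (hstep n).2⟩
  rw [(hstep n).1]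
  conv_rhs => rw [← pow_one (b : G)]
  rw [pow_eq_pow_iff_modEq, hb]
  exact hn

end CfsgLib.HNSect
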