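/-
The centraliser of the element of order 5 modulo the group it generates is of Harada–Norton type.
-/
import Cfsg.Agent.HNSect.Swap
import Cfsg.Agent.Monster.ExtraBasics

set_option autoImplicit false
set_option linter.style.haveILetI false
set_option linter.constructorNameAsVariable false
set_option maxRecDepth 100000

namespace CfsgLib.HNSect

open Cfsg CfsgLib.Golay CfsgLib.Leech CfsgLib.Monster CfsgLib.LeechFix

attribute [local irreducible] shortVecs halfTable quarterTable codeFinset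

variable {G : Type*} [Group G] [Finite G] {z s : G}

theorem main (D : Data z) {b : Subgroup.centralizer ({z} : Set G)} (hb : orderOf (b : G) = 5)
    (hπ : D.π b = QuotientGroup.mk S.rho)
    (hs : s ∈ D.Q) (hsz : s ≠ z) (hconj : IsConj z s)
    (hcs : D.cl s = cls (eightAt none : GolayPt → ℤ)) (hbs : (b : G) * s = s * (b : G))
    {B : Subgroup G} (hB : B = Subgroup.zpowers (b : G))
    [hn : (B.subgroupOf (Subgroup.centralizer (B : Set G))).Normal] :
    IsOfHaradaNortonType
      (↥(Subgroup.centralizer (B : Set G)) ⧸ B.subgroupOf (Subgroup.centralizer (B : Set G))) := by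
  haveI : Fact (Nat.Prime 2) := ⟨Nat.prime_two⟩
  have hmem : ∀ x : G, x ∈ Subgroup.centralizer (B : Set G) ↔ x * (b : G) = (b : G) * x := by
    intro x
    rw [hB, Subgroup.zpowers_eq_closure, Subgroup.centralizer_closure,
      Subgroup.mem_centralizer_singleton_iff]
  have hbz : (b : G) * z = z * (b : G) := Subgroup.mem_centralizer_singleton_iff.1 b.2
  have hBcard : Nat.card B = 5 := by rw [hB, Nat.card_zpowers, hb]
  have hBQ : ∀ x ∈ B, x ∈ D.Q → x = 1 := by
    intro x hxB hxQ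
    have h1 := Subgroup.orderOf_dvd_natCard B hxB
    have h2 := Subgroup.orderOf_dvd_natCard D.Q hxQ
    rw [hBcard] at h1
    rw [D.card] at h2
    have := Nat.dvd_gcd h1 h2
    rw [show Nat.gcd 5 (2 ^ 25) = 1 by norm_num] at this
    exact orderOf_eq_one_iff.1 (Nat.dvd_one.1 this)
  have hBz : ∀ x ∈ B, x * z = z * x := by
    intro x hx
    rw [hB] at hx
    obtain ⟨j, rfl⟩ := Subgroup.mem_zpowers_iff.1 hx
    exact ((show Commute (b : G) z from hbz).zpow_left j).eq
  set CB := Subgroup.centralizer (B : Set G) with hCB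
  set BB := B.subgroupOf CB with hBB
  let zC : CB := ⟨z, (hmem z).2 hbz.symm⟩
  let q : CB →* CB ⧸ BB := QuotientGroup.mk' BB
  set zb : CB ⧸ BB := q zC with hzb
  have hq1 : ∀ x : CB, q x = 1 ↔ (x : G) ∈ B := fun x => QuotientGroup.eq_one_iff x
  have hqeq : ∀ x y : CB, q x = q y ↔ (x : G)⁻¹ * y ∈ B := fun x y => QuotientGroup.eq
  have hzne : zb ≠ 1 := fun e => D.gen.ne_one (hBQ z ((hq1 zC).1 e) D.gen.mem)
  -- the centraliser of the element inside the centraliser of the involution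
  let Kc := Subgroup.centralizer ({b} : Set (Subgroup.centralizer ({z} : Set G)))
  let inK : Kc →* CB :=
    { toFun := fun k => ⟨((k : Subgroup.centralizer ({z} : Set G)) : G), (hmem _).2
        (congrArg Subtype.val (Subgroup.mem_centralizer_singleton_iff.1 k.2))⟩
      map_one' := rfl
      map_mul' := fun _ _ => rfl }
  have hqcomm : ∀ k : Kc, q (inK k) ∈ Subgroup.centralizer ({zb} : Set (CB ⧸ BB)) := fun k =>
    Subgroup.mem_centralizer_singleton_iff.2 (by
      rw [hzb, ← map_mul, ← map_mul]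
      exact congrArg q (Subtype.ext
        (Subgroup.mem_centralizer_singleton_iff.1 (k : Subgroup.centralizer ({z} : Set G)).2)))
  let f : Kc →* Subgroup.centralizer ({zb} : Set (CB ⧸ BB)) :=
    (q.comp inK).codRestrict _ hqcomm
  have hf : Function.Surjective f := by
    rintro ⟨y, hy⟩
    obtain ⟨x, rfl⟩ := QuotientGroup.mk'_surjective BB y
    have h1 : q (x * zC) = q (zC * x) := by
      rw [map_mul, map_mul]; exact Subgroup.mem_centralizer_singleton_iff.1 hy
    have h2 := (hqeq _ _).1 h1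
    set β := ((x * zC : CB) : G)⁻¹ * ((zC * x : CB) : G) with hβ
    have hβx : (x : G) * β = β * (x : G) := by
      have := (hmem x).1 x.2
      have h3 := h2
      rw [hB] at h3
      obtain ⟨j, hj⟩ := Subgroup.mem_zpowers_iff.1 h3
      rw [← hj]
      exact ((show Commute (x : G) (b : G) from this).zpow_right j).eq
    have hzx : z * (x : G) = (x : G) * z * β := by
      rw [hβ]; simp [zC, mul_assoc]
    have hcβ : z * β = β * z := (hBz β h2).symm
    have e1 : (x : G) * z * (x : G)⁻¹ = z * β⁻¹ := by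
      calc (x : G) * z * (x : G)⁻¹ = (x : G) * z * β * β⁻¹ * (x : G)⁻¹ := by group
        _ = z * (x : G) * ((x : G) * β)⁻¹ := by rw [← hzx]; group
        _ = z * (x : G) * (β * (x : G))⁻¹ := by rw [hβx]
        _ = z * β⁻¹ := by group
    have e2 : β * β = 1 := by
      have h5 : ((x : G) * z * (x : G)⁻¹) * ((x : G) * z * (x : G)⁻¹) = 1 := by
        rw [conj_mul, D.gen.sq, mul_one, mul_inv_cancel]
      rw [e1] at h5
      have hc' : β⁻¹ * z = z * β⁻¹ := ((show Commute z β from hcβ).inv_right).eq.symm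
      rw [show z * β⁻¹ * (z * β⁻¹) = z * (β⁻¹ * z) * β⁻¹ by group, hc',
        show z * (z * β⁻¹) * β⁻¹ = (z * z) * (β * β)⁻¹ by group, D.gen.sq, one_mul, inv_eq_one] at h5
      exact h5
    have e3 : β = 1 := by
      have ho : orderOf β ∣ 2 := orderOf_dvd_of_pow_eq_one (by rw [pow_two]; exact e2)
      have ho5 := Subgroup.orderOf_dvd_natCard B h2
      rw [hBcard] at ho5
      have := Nat.dvd_gcd ho ho5
      rw [show Nat.gcd 2 5 = 1 by norm_num] at this
      exact orderOf_eq_one_iff.1 (Nat.dvd_one.1 this)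
    rw [e3, mul_one] at hzx
    let kC : Subgroup.centralizer ({z} : Set G) :=
      ⟨(x : G), Subgroup.mem_centralizer_singleton_iff.2 hzx.symm⟩
    refine ⟨⟨kC, Subgroup.mem_centralizer_singleton_iff.2 (Subtype.ext ((hmem x).1 x.2))⟩, ?_⟩
    exact Subtype.ext rfl
  have hfker : f.ker ≤ (ψC D hπ).ker := by
    intro k hk
    have h1 : ((k : Subgroup.centralizer ({z} : Set G)) : G) ∈ B :=
      (hq1 (inK k)).1 (congrArg Subtype.val hk)
    rw [hB] at h1
    obtain ⟨j, hj⟩ := Subgroup.mem_zpowers_iff.1 h1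
    refine ψC_b D hb hπ k (Subgroup.mem_zpowers_iff.2 ⟨j, ?_⟩)
    rw [← map_zpow]
    exact congrArg D.π (Subtype.ext hj)
  let Ψ : Subgroup.centralizer ({zb} : Set (CB ⧸ BB)) →* Wr :=
    f.liftOfSurjective hf ⟨ψC D hπ, hfker⟩
  have hΨ : ∀ k, Ψ (f k) = ψC D hπ k := fun k =>
    MonoidHom.liftOfRightInverse_comp_apply f _ _ ⟨ψC D hπ, hfker⟩ k
  have hΨsurj : Function.Surjective Ψ := fun p => by
    obtain ⟨k, hk⟩ := ψC_surjective D hb hπ p
    exact ⟨f k, (hΨ k).trans hk⟩
  -- the fixed subgroup maps onto the kernel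
  let inR : R D (b := b) →* Kc :=
    { toFun := fun r => ⟨⟨(r : G), D.le_C ((mem_R D).1 r.2).1⟩,
        Subgroup.mem_centralizer_singleton_iff.2 (Subtype.ext ((mem_R D).1 r.2).2.symm)⟩
      map_one' := rfl
      map_mul' := fun _ _ => rfl }
  have hrker : ∀ r, f (inR r) ∈ Ψ.ker := fun r => by
    rw [MonoidHom.mem_ker, hΨ]
    refine ψC_b D hb hπ _ ?_
    rw [show D.π (inR r : Subgroup.centralizer ({z} : Set G)) = 1 from
      (D.mem_ker _).2 ((mem_R D).1 r.2).1]
    exact one_mem _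
  let φ : R D (b := b) →* Ψ.ker := (f.comp inR).codRestrict _ hrker
  have hφinj : Function.Injective φ := by
    rw [injective_iff_map_eq_one]
    intro r hr
    have h1 : (r : G) ∈ B := (hq1 (inK (inR r))).1
      (congrArg (fun w : Ψ.ker => ((w : Subgroup.centralizer ({zb} : Set (CB ⧸ BB))) : CB ⧸ BB)) hr)
    exact Subtype.ext (hBQ _ h1 ((mem_R D).1 r.2).1)
  have hφsurj : Function.Surjective φ := by
    rintro ⟨y, hy⟩
    obtain ⟨k, rfl⟩ := hf y
    rw [MonoidHom.mem_ker, hΨ] at hy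
    obtain ⟨j, hj⟩ := ψC_ker D hb hπ hy
    have hcomm : (b : G) * (((k : Subgroup.centralizer ({z} : Set G)) : G) * ((b : G) ^ j)⁻¹) =
        ((k : Subgroup.centralizer ({z} : Set G)) : G) * ((b : G) ^ j)⁻¹ * (b : G) := by
      have h1 : Commute (b : G) ((k : Subgroup.centralizer ({z} : Set G)) : G) :=
        (congrArg Subtype.val (Subgroup.mem_centralizer_singleton_iff.1 k.2)).symm
      exact (h1.mul_right (((Commute.refl (b : G)).zpow_right j).inv_right)).eq
    refine ⟨⟨_, (mem_R D).2 ⟨hj, hcomm⟩⟩, Subtype.ext (Subtype.ext ((hqeq _ _).2 ?_))⟩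
    show (((k : Subgroup.centralizer ({z} : Set G)) : G) * ((b : G) ^ j)⁻¹)⁻¹ *
      ((k : Subgroup.centralizer ({z} : Set G)) : G) ∈ B
    rw [show (((k : Subgroup.centralizer ({z} : Set G)) : G) * ((b : G) ^ j)⁻¹)⁻¹ *
      ((k : Subgroup.centralizer ({z} : Set G)) : G) = (b : G) ^ j by group, hB]
    exact Subgroup.mem_zpowers_iff.2 ⟨j, rfl⟩
  have hQcard : Nat.card Ψ.ker = 2 ^ (2 * 4 + 1) := by
    rw [← Nat.card_eq_of_bijective φ ⟨hφinj, hφsurj⟩, card_R D hb hπ]
  have hRp : IsPGroup 2 (R D (b := b)) := IsPGroup.of_card (card_R D hb hπ)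
  have hQp : IsPGroup 2 Ψ.ker := IsPGroup.of_card hQcard
  have hzR : (⟨z, z_mem_R D⟩ : R D (b := b)) ∈ Subgroup.center (R D (b := b)) :=
    Subgroup.mem_center_iff.2 fun x => Subtype.ext (D.gen.comm_z x ((mem_R D).1 x.2).1).eq
  have hzc : ∀ r : R D (b := b), (r : G) = 1 ∨ (r : G) = z →
      φ r ∈ Subgroup.center Ψ.ker := fun r hr => by
    rw [Subgroup.mem_center_iff]
    intro y
    obtain ⟨x, rfl⟩ := hφsurj y
    rw [← map_mul, ← map_mul]
    refine congrArg φ ?_
    rcases hr with e | e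
    · rw [show r = 1 from Subtype.ext e]; simp
    · rw [show r = ⟨z, z_mem_R D⟩ from Subtype.ext e]
      exact Subgroup.mem_center_iff.1 hzR x
  have hext : IsExtraspecial 2 Ψ.ker := by
    refine isExtraspecial_of hQp ?_ ?_ ?_ ?_
    · let F : Bool → Subgroup.center Ψ.ker := fun e =>
        if e then ⟨φ ⟨z, z_mem_R D⟩, hzc _ (Or.inr rfl)⟩ else 1
      have hF : Function.Bijective F := by
        have hne : φ ⟨z, z_mem_R D⟩ ≠ 1 := fun e =>
          D.gen.ne_one (congrArg Subtype.val (hφinj (e.trans (map_one φ).symm)))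
        constructor
        · intro e e' h
          have h' := congrArg Subtype.val h
          cases e <;> cases e' <;> simp [F, hne, Ne.symm hne] at h' ⊢
        · rintro ⟨y, hy⟩
          obtain ⟨r, rfl⟩ := hφsurj y
          rcases R_center D hb hπ r.2 (fun x hx => congrArg Subtype.val
            (hφinj ((map_mul φ r ⟨x, hx⟩).trans
              ((Subgroup.mem_center_iff.1 hy (φ ⟨x, hx⟩)).symm.trans (map_mul φ ⟨x, hx⟩ r).symm))))
            with e | e
          · exact ⟨false, Subtype.ext (by simp [F, show r = 1 from Subtype.ext e])⟩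
          · exact ⟨true, Subtype.ext (by simp [F, show r = ⟨z, z_mem_R D⟩ from Subtype.ext e])⟩
      rw [← Nat.card_eq_of_bijective F hF, Nat.card_eq_fintype_card, Fintype.card_bool]
    · intro x y
      obtain ⟨r, rfl⟩ := hφsurj x
      obtain ⟨r', rfl⟩ := hφsurj y
      rw [← map_inv, ← map_inv, ← map_mul, ← map_mul, ← map_mul]
      exact hzc _ (D.gen.comm r ((mem_R D).1 r.2).1 r' ((mem_R D).1 r'.2).1)
    · intro x
      obtain ⟨r, rfl⟩ := hφsurj x
      rw [← map_mul]
      exact hzc _ (D.gen.square r ((mem_R D).1 r.2).1)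
    · obtain ⟨r, hr, x, hx, hne⟩ := R_noncomm D hb hπ
      refine ⟨φ ⟨r, hr⟩, φ ⟨x, hx⟩, fun e => hne ?_⟩
      rw [← map_mul, ← map_mul] at e
      exact congrArg Subtype.val (hφinj e)
  have hself : Subgroup.centralizer (Ψ.ker : Set (Subgroup.centralizer ({zb} : Set (CB ⧸ BB)))) ≤
      Ψ.ker := by
    intro y hy
    obtain ⟨k, rfl⟩ := hf y
    rw [MonoidHom.mem_ker, hΨ]
    refine ψC_of_centralising D hb hπ fun r hr => ?_
    have h1 := (Subgroup.mem_centralizer_iff.1 hy) _ (hrker ⟨r, hr⟩)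
    rw [← map_mul, ← map_mul] at h1
    have h2 := (hqeq _ _).1 (congrArg Subtype.val h1)
    have hrQ := ((mem_R D).1 hr).1
    set kk := ((k : Subgroup.centralizer ({z} : Set G)) : G) with hkk
    have h3 : (r * kk)⁻¹ * (kk * r) ∈ B := h2
    have h4 : (r * kk)⁻¹ * (kk * r) ∈ D.Q := by
      have hkC : kk⁻¹ ∈ Subgroup.centralizer ({z} : Set G) :=
        inv_mem (k : Subgroup.centralizer ({z} : Set G)).2
      rw [show (r * kk)⁻¹ * (kk * r) = (kk⁻¹ * r⁻¹ * kk⁻¹⁻¹) * r by group]
      exact mul_mem (conj_mem D hkC (inv_mem hrQ)) hrQ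
    have h5 := hBQ _ h3 h4
    calc kk * r * kk⁻¹ = (r * kk) * ((r * kk)⁻¹ * (kk * r)) * kk⁻¹ := by group
      _ = r := by rw [h5]; group
  have hfit : fittingSubgroup (Subgroup.centralizer ({zb} : Set (CB ⧸ BB))) ≤ Ψ.ker := by
    haveI := Comp.fitting_isSolvable (G := Subgroup.centralizer ({zb} : Set (CB ⧸ BB)))
    set F := fittingSubgroup (Subgroup.centralizer ({zb} : Set (CB ⧸ BB))) with hF
    haveI : (F.map Ψ).Normal := Subgroup.Normal.map inferInstance _ hΨsurj
    haveI : Group.IsSolvable (F.map Ψ) :=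
      Group.isSolvable_of_surjective (f := Ψ.subgroupMap F) (Ψ.subgroupMap_surjective F)
    intro y hy
    have h1 : Ψ y ∈ F.map Ψ := Subgroup.mem_map_of_mem Ψ hy
    rw [solvable_normal_bot (F.map Ψ), Subgroup.mem_bot] at h1
    exact h1
  -- the moving element
  obtain ⟨x, hxb, hxz⟩ := exists_swap D hb hπ hs hsz hconj hcs hbs
  let xC : CB := ⟨x, (hmem x).2 hxb⟩
  let sR : R D (b := b) := ⟨s, (mem_R D).2 ⟨hs, hbs⟩⟩
  have hxq : q xC * zb * (q xC)⁻¹ = (f (inR sR) : CB ⧸ BB) := by
    show q xC * q zC * (q xC)⁻¹ = q (inK (inR sR))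
    rw [← map_inv, ← map_mul, ← map_mul]
    exact congrArg q (Subtype.ext hxz)
  refine ⟨zb, Ψ.ker, inferInstance, ⟨?_, ?_, hext, hQcard, ?_⟩,
    ⟨QuotientGroup.quotientKerEquivOfSurjective Ψ hΨsurj⟩⟩
  · refine orderOf_eq_prime ?_ hzne
    rw [hzb, pow_two, ← map_mul, show zC * zC = 1 from Subtype.ext D.gen.sq, map_one]
  · exact le_antisymm (Comp.Fstar_le_of_self_centralizing Ψ.ker hfit hself)
      ((Comp.le_fitting inferInstance hQp.isNilpotent).trans Comp.fitting_le_Fstar)
  · have hmemC : q xC * zb * (q xC)⁻¹ ∈ Subgroup.centralizer ({zb} : Set (CB ⧸ BB)) := by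
      rw [hxq]; exact (f (inR sR)).2
    refine ⟨q xC, ⟨hmemC, ?_⟩, fun e => ?_⟩
    · have e' : (⟨_, hmemC⟩ : Subgroup.centralizer ({zb} : Set (CB ⧸ BB))) = f (inR sR) :=
        Subtype.ext hxq
      rw [e']; exact hrker sR
    · have h0 : q zC = q (inK (inR sR)) := e.symm.trans hxq
      have h1 : z⁻¹ * s ∈ B := (hqeq _ _).1 h0
      exact hsz (inv_mul_eq_one.1 (hBQ _ h1 (mul_mem (inv_mem D.gen.mem) hs))).symm

end CfsgLib.HNSect
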